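import Cfsg.Agent.GW.PA4

/-! Case (α): see `PA1`–`PA4`. -/
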