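import Cfsg.Agent.GW.PB3

/-! Basic facts on groups with cyclic or dihedral `2`-subgroups: see `PB1`, `PB2`, `PB3`. -/
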