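import Cfsg.Agent.GW.PC8

/-! Interface: character theory (Bender–Glauberman); proved in `PC1`–`PC8`. -/
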