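import Cfsg.Agent.GW.PKL2

/-! Proper subgroups of the minimal counterexample: see `IK0`, `PKL1`, `PKL2`. -/
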