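import Cfsg.Agent.GW.PKG8

/-! Interface: recognition (`psl_of_bsw`, `isCyclic_of_bsw` in PK3) and the K-group facts
(`kgroup'` in PKG8). -/
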