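import Cfsg.Agent.GW.PL2

/-! General lemmas (Bender): see `PL1`, `PL2`. -/
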