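import Cfsg.Agent.GW.PM7

/-! `C(t)` is maximal: see `PM1`–`PM7` (`conf_e`, `hmax`). -/
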